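import Cfsg.Agent.BSWId.Main
import Cfsg.Agent.Invol.ThompsonTransfer
import Cfsg.Agent.S0514
import Cfsg.Agent.SmallSimple.Basic
import Cfsg.Agent.Solvable.Basics

/-!
# The Brauer–Suzuki–Wall hypotheses in a group with a dihedral Sylow 2-subgroup
-/

set_option autoImplicit false

namespace CfsgLib.BSWId

open Subgroup
open scoped Pointwise

variable {G : Type*} [Group G] [Finite G]

/-- A noncommutative simple group is generated by its elements of odd order. -/
theorem pResidual_eq_top [IsSimpleGroup G] (hnc : ¬ ∀ a b : G, a * b = b * a) :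
    Cfsg.pResidual 2 G = ⊤ := by
  haveI : (Cfsg.pResidual 2 G).Normal := by
    refine ⟨fun n hn g => ?_⟩
    have hle : (Cfsg.pResidual 2 G).map (MulAut.conj g).toMonoidHom ≤ Cfsg.pResidual 2 G := by
      rw [Cfsg.pResidual, MonoidHom.map_closure, closure_le]
      rintro _ ⟨x, hx, rfl⟩
      refine subset_closure ?_
      show Nat.Coprime (orderOf (MulAut.conj g x)) 2
      rw [MulEquiv.orderOf_eq]; exact hx
    exact hle ⟨n, hn, rfl⟩
  rcases IsSimpleGroup.eq_bot_or_eq_top_of_normal (Cfsg.pResidual 2 G) inferInstance with h | h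
  swap; · exact h
  exfalso
  have hp : IsPGroup 2 G := by
    intro g
    obtain ⟨k, m, hm, hkm⟩ := Nat.exists_eq_pow_mul_and_not_dvd (orderOf_pos g).ne' 2 (by norm_num)
    refine ⟨k, ?_⟩
    have hmem : g ^ 2 ^ k ∈ Cfsg.pResidual 2 G := by
      refine subset_closure ?_
      show Nat.Coprime (orderOf (g ^ 2 ^ k)) 2
      refine Nat.Coprime.coprime_dvd_left ?_
        (Nat.coprime_comm.1 ((Nat.Prime.coprime_iff_not_dvd Nat.prime_two).2 hm))
      refine orderOf_dvd_of_pow_eq_one ?_
      rw [← pow_mul, ← hkm, pow_orderOf_eq_one]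
    rw [h, mem_bot] at hmem
    exact hmem
  haveI : Fact (Nat.Prime 2) := ⟨Nat.prime_two⟩
  haveI : Group.IsNilpotent G := hp.isNilpotent
  exact hnc (IsSimpleGroup.comm_iff_isSolvable.2 inferInstance)

/-- No group of order twelve is simple. -/
theorem not_simple_twelve [IsSimpleGroup G] (h : Nat.card G = 12) : False := by
  haveI : Fact (Nat.Prime 3) := ⟨Nat.prime_three⟩
  haveI : Fact (Nat.Prime 2) := ⟨Nat.prime_two⟩
  obtain ⟨P⟩ : Nonempty (Sylow 2 G) := inferInstance
  have hP : Nat.card (P : Subgroup G) = 4 := by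
    rw [P.card_eq_multiplicity, h, show (12 : ℕ) = 2 ^ 2 * 3 by norm_num]
    rw [Nat.factorization_mul (by norm_num) (by norm_num), Nat.Prime.factorization_pow Nat.prime_two,
      Nat.prime_three.factorization]
    simp
  have hidx : (P : Subgroup G).index = 3 := by
    have := (P : Subgroup G).index_mul_card
    rw [hP, h] at this
    omega
  have hne : (P : Subgroup G) ≠ ⊤ := fun h2 => by
    rw [h2, index_top] at hidx
    omega
  have hdvd := CfsgLib.SmallSimple.card_dvd_factorial (P : Subgroup G) hne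
  rw [hidx, h] at hdvd
  norm_num [Nat.factorial] at hdvd

/-- One class of involutions when the Sylow 2-subgroup is a four group. -/
theorem isConj_of_four [IsSimpleGroup G] (S : Sylow 2 G) (h4 : Nat.card (S : Subgroup G) = 4)
    (eS : (S : Subgroup G) ≃* DihedralGroup (2 ^ 1)) (hres : Cfsg.pResidual 2 G = ⊤) (x y : G)
    (hx : orderOf x = 2) (hy : orderOf y = 2) : IsConj x y := by
  haveI : Fact (Nat.Prime 2) := ⟨Nat.prime_two⟩
  have hno : ∀ M : Subgroup G, M.Normal → M.index ≠ 2 := by
    intro M hM hi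
    rcases IsSimpleGroup.eq_bot_or_eq_top_of_normal M hM with rfl | rfl
    · rw [index_bot] at hi
      have := (S : Subgroup G).card_subgroup_dvd_card
      rw [h4, hi] at this
      norm_num at this
    · rw [index_top] at hi; omega
  obtain ⟨a, haS, ha⟩ : ∃ a ∈ (S : Subgroup G), orderOf a = 2 := by
    obtain ⟨a, ha⟩ := exists_prime_orderOf_dvd_card' (G := (S : Subgroup G)) 2 (by rw [h4]; norm_num)
    exact ⟨a, a.2, by rw [Subgroup.orderOf_coe, ha]⟩
  have hQi : (zpowers a).relIndex (S : Subgroup G) = 2 := by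
    have h := ((zpowers a).subgroupOf (S : Subgroup G)).card_mul_index
    rw [Nat.card_congr (subgroupOfEquivOfLe (zpowers_le.2 haS)).toEquiv, Nat.card_zpowers, ha, h4] at h
    exact Nat.eq_of_mul_eq_mul_left (by norm_num : 0 < 2) h
  have hodd : Odd (S : Subgroup G).index := Nat.odd_iff.2 (by
    have := S.not_dvd_index
    omega)
  have key : ∀ z : G, orderOf z = 2 → IsConj z a := by
    intro z hz
    rcases CfsgLib.ThompsonTransfer.thompson_transfer (S : Subgroup G) (zpowers a) hodd hQi
      (by rw [← pow_two, ← hz, pow_orderOf_eq_one]) with ⟨M, hM, hi, -⟩ | ⟨g, hg⟩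
    · exact absurd hi (hno M hM)
    · refine isConj_iff.2 ⟨g, ?_⟩
      have h1 : g * z * g⁻¹ ≠ 1 := fun h => by
        rw [conj_eq_one_iff] at h; rw [h, orderOf_one] at hz; omega
      obtain ⟨k, hk⟩ := mem_zpowers_iff.1 hg
      rw [← zpow_mod_orderOf, ha] at hk
      rcases Int.emod_two_eq_zero_or_one k with h0 | h0
      · rw [show ((2 : ℕ) : ℤ) = 2 by norm_num, h0, zpow_zero] at hk; exact absurd hk.symm h1
      · rw [show ((2 : ℕ) : ℤ) = 2 by norm_num, h0, zpow_one] at hk; exact hk.symm
  exact (key x hx).trans (key y hy).symm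

/-- Every element of a dihedral group is a rotation or a reflection of square one. -/
theorem dihedral_cases {n : ℕ} (x : DihedralGroup n) :
    x ∈ zpowers (DihedralGroup.r (1 : ZMod n)) ∨ ∃ i, x = DihedralGroup.sr i := by
  rcases x with i | i
  · left
    obtain ⟨k, rfl⟩ := ZMod.intCast_surjective i
    exact ⟨k, DihedralGroup.r_one_zpow k⟩
  · exact Or.inr ⟨i, rfl⟩

/-- A cyclic subgroup of index two in a dihedral group is inverted by the elements outside it,
which are involutions. -/
theorem dihedral_cyclic_index_two {n : ℕ} (hn : 2 ≤ n) (R : Subgroup (DihedralGroup n))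
    (hR : IsCyclic R) (hi : R.index = 2) (s : DihedralGroup n) (hs : s ∉ R) :
    s * s = 1 ∧ ∀ x ∈ R, s * x * s⁻¹ = x⁻¹ := by
  haveI : NeZero n := ⟨by omega⟩
  have hcard : Nat.card R = n := by
    have := R.index_mul_card
    rw [hi, DihedralGroup.nat_card] at this
    omega
  obtain ⟨g, hg⟩ := (R.isCyclic_iff_exists_zpowers_eq_top).1 hR
  have hgo : orderOf g = n := by rw [← Nat.card_zpowers, hg, hcard]
  rcases eq_or_lt_of_le hn with h2 | h3
  · subst h2
    have hall : ∀ y : DihedralGroup 2, y * y = 1 := by decide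
    refine ⟨hall s, fun x _ => ?_⟩
    have h1 : ∀ y z : DihedralGroup 2, y * z * y⁻¹ = z⁻¹ := by decide
    exact h1 s x
  · have hgr : g ∈ zpowers (DihedralGroup.r (1 : ZMod n)) := by
      rcases dihedral_cases g with h | ⟨i, rfl⟩
      · exact h
      · rw [DihedralGroup.orderOf_sr] at hgo; omega
    have hReq : R = zpowers (DihedralGroup.r (1 : ZMod n)) := by
      refine Subgroup.eq_of_le_of_card_ge ?_ ?_
      · rw [← hg, zpowers_le]; exact hgr
      · rw [hcard, Nat.card_zpowers, DihedralGroup.orderOf_r_one]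
    rcases dihedral_cases s with h | ⟨i, rfl⟩
    · exact absurd (hReq ▸ h) hs
    · refine ⟨DihedralGroup.sr_mul_self i, fun x hx => ?_⟩
      rw [hReq] at hx
      obtain ⟨k, rfl⟩ := mem_zpowers_iff.1 hx
      rw [DihedralGroup.r_one_zpow, DihedralGroup.inv_sr, DihedralGroup.sr_mul_r,
        DihedralGroup.sr_mul_sr, DihedralGroup.inv_r]
      congr 1
      abel

/-- A central involution of a dihedral group lies in a cyclic subgroup of index two. -/
theorem dihedral_exists_cyclic {n : ℕ} (hn : 2 ≤ n) (z : DihedralGroup n) (hz : orderOf z = 2)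
    (hzc : ∀ x, x * z = z * x) :
    ∃ R : Subgroup (DihedralGroup n), IsCyclic R ∧ R.index = 2 ∧ z ∈ R := by
  haveI : NeZero n := ⟨by omega⟩
  rcases eq_or_lt_of_le hn with h2 | h3
  · subst h2
    refine ⟨zpowers z, inferInstance, ?_, mem_zpowers z⟩
    have := (zpowers z).index_mul_card
    rw [Nat.card_zpowers, hz, DihedralGroup.nat_card] at this
    omega
  · refine ⟨zpowers (DihedralGroup.r (1 : ZMod n)), inferInstance, ?_, ?_⟩
    · have := (zpowers (DihedralGroup.r (1 : ZMod n))).index_mul_card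
      rw [Nat.card_zpowers, DihedralGroup.orderOf_r_one, DihedralGroup.nat_card] at this
      exact Nat.eq_of_mul_eq_mul_right (by omega) this
    · rcases dihedral_cases z with h | ⟨i, rfl⟩
      · exact h
      · exfalso
        have h := hzc (DihedralGroup.r 1)
        rw [DihedralGroup.r_mul_sr, DihedralGroup.sr_mul_r] at h
        have h' : i - 1 = i + 1 := DihedralGroup.sr.inj h
        have h2 : ((2 : ℕ) : ZMod n) = 0 := by
          push_cast
          calc (2 : ZMod n) = (i + 1) - (i - 1) := by ring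
            _ = 0 := by rw [h', sub_self]
        rw [ZMod.natCast_eq_zero_iff] at h2
        have := Nat.le_of_dvd (by norm_num) h2
        omega

/-- The hypotheses of the Brauer–Suzuki–Wall theorem. -/
theorem bsw_hyp (S : Sylow 2 G) {n : ℕ} (hn : 2 ≤ n) (eS : (S : Subgroup G) ≃* DihedralGroup n)
    (t : G) (ht : orderOf t = 2) (htS : t ∈ (S : Subgroup G))
    (htZ : ∀ s ∈ (S : Subgroup G), s * t = t * s) (O : Subgroup G)
    (hO : O = (Cfsg.oddCore (Subgroup.centralizer ({t} : Set G))).map (Subgroup.centralizer ({t} : Set G)).subtype)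
    (ha : O ≠ ⊥ → IsCyclic ((S : Subgroup G) ⊓ Subgroup.centralizer (O : Set G) : Subgroup G) ∧
      ((S : Subgroup G) ⊓ Subgroup.centralizer (O : Set G)).relIndex (S : Subgroup G) = 2)
    (hb : ∀ s ∈ (S : Subgroup G), s ∉ Subgroup.centralizer (O : Set G) → ∀ y ∈ O, s * y * s⁻¹ = y⁻¹)
    (hc : ∀ Y : Subgroup G, Y ≤ O → Y ≠ ⊥ → Subgroup.normalizer (Y : Set G) ≤ Subgroup.centralizer ({t} : Set G))
    (hone : ∀ x y : G, orderOf x = 2 → orderOf y = 2 → IsConj x y) :
    Nat.card G = 12 ∨ ∃ (F : Type) (_ : Field F) (_ : Fintype F), ringChar F ≠ 2 ∧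
      Nonempty (G ≃* Matrix.ProjectiveSpecialLinearGroup (Fin 2) F) := by
  classical
  haveI : Fact (Nat.Prime 2) := ⟨Nat.prime_two⟩
  set C := centralizer ({t} : Set G) with hC
  have htC : t ∈ C := mem_centralizer_singleton_iff.2 rfl
  have hSC : (S : Subgroup G) ≤ C := fun s hs => mem_centralizer_singleton_iff.2 (htZ s hs)
  have hOC : O ≤ C := hO ▸ map_subtype_le _
  -- the odd core is the normal complement of `S` in `C`
  obtain ⟨M, hMn, hModd, k, hk⟩ := Cfsg.Agent.S0514.result S n hn ⟨eS⟩ t ht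
  set M' := M.map C.subtype with hM'
  have hMO : M' ≤ O := by
    rw [hO]
    refine map_mono ?_
    exact le_sSup ⟨hMn, Nat.coprime_two_right.2 hModd⟩
  have hMSle : M' ⊔ (S : Subgroup G) = C := by
    refine le_antisymm (sup_le (map_subtype_le _) hSC) ?_
    have h1 : Nat.card M' * M.index = Nat.card C := by
      rw [hM', card_map_of_injective C.subtype_injective, M.card_mul_index]
    set X := M' ⊔ (S : Subgroup G) with hX
    have hXC : X ≤ C := sup_le (map_subtype_le _) hSC
    refine le_of_eq (Subgroup.eq_of_le_of_card_ge hXC ?_).symm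
    have hS2 : 2 ^ k ∣ Nat.card (S : Subgroup G) := by
      rw [S.card_eq_multiplicity]
      refine ((Nat.Prime.pow_dvd_iff_dvd_ordProj Nat.prime_two Nat.card_pos.ne').1 ?_)
      rw [← hk]
      exact M.index_dvd_card.trans C.card_subgroup_dvd_card
    have hcop : (Nat.card M').Coprime (2 ^ k) := by
      refine Nat.Coprime.pow_right _ ?_
      rw [hM', card_map_of_injective C.subtype_injective]
      exact Nat.coprime_two_right.2 hModd
    refine Nat.le_of_dvd Nat.card_pos ?_
    rw [← h1, hk]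
    exact hcop.mul_dvd_of_dvd_of_dvd (card_dvd_of_le le_sup_left)
      (hS2.trans (card_dvd_of_le le_sup_right))
  have hOS : O ⊔ (S : Subgroup G) = C :=
    le_antisymm (sup_le hOC hSC) (hMSle ▸ sup_le_sup_right hMO _)
  have hOodd : Odd (Nat.card O) := by
    rw [hO, card_map_of_injective C.subtype_injective]
    exact Nat.coprime_two_right.1 (CfsgLib.Solvable.coprime_card_pPrimeCore (G := ↥C) 2)
  have hOnorm : ∀ c ∈ C, ∀ x ∈ O, c * x * c⁻¹ ∈ O := by
    intro c hc x hx
    rw [hO] at hx ⊢
    obtain ⟨x', hx', rfl⟩ := hx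
    exact ⟨⟨c, hc⟩ * x' * ⟨c, hc⟩⁻¹, (Cfsg.pPrimeCore_normal 2 ↥C).conj_mem x' hx' _, rfl⟩
  -- the cyclic subgroup of index two
  obtain ⟨R, hRS, hRcyc, hRi, htR, hRO⟩ : ∃ R : Subgroup G, R ≤ (S : Subgroup G) ∧ IsCyclic R ∧
      R.relIndex (S : Subgroup G) = 2 ∧ t ∈ R ∧ R ≤ centralizer (O : Set G) := by
    by_cases h : O = ⊥
    · obtain ⟨R₀, h1, h2, h3⟩ := dihedral_exists_cyclic hn (eS ⟨t, htS⟩)
        (by rw [MulEquiv.orderOf_eq, ← Subgroup.orderOf_coe]; exact ht)
        (fun x => by
          obtain ⟨y, rfl⟩ := eS.surjective x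
          rw [← map_mul, ← map_mul]
          exact congrArg eS (Subtype.ext (htZ y y.2)))
      refine ⟨(R₀.comap eS.toMonoidHom).map (S : Subgroup G).subtype, map_subtype_le _, ?_, ?_, ?_, ?_⟩
      · have : IsCyclic (R₀.comap eS.toMonoidHom) := by
          haveI := h1
          exact isCyclic_of_injective ((eS.toMonoidHom.comp (R₀.comap eS.toMonoidHom).subtype).codRestrict R₀
            (fun x => x.2)) (fun a b hab => Subtype.ext (eS.injective (congrArg Subtype.val hab)))
        haveI := this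
        exact isCyclic_of_surjective _ ((R₀.comap eS.toMonoidHom).equivMapOfInjective _
          (S : Subgroup G).subtype_injective).surjective
      · rw [Subgroup.relIndex, Subgroup.subgroupOf, comap_map_eq_self_of_injective
          (S : Subgroup G).subtype_injective, index_comap_of_surjective _ eS.surjective, h2]
      · exact ⟨⟨t, htS⟩, h3, rfl⟩
      · intro r _
        rw [h, mem_centralizer_iff]
        intro y hy
        rw [SetLike.mem_coe, mem_bot] at hy
        rw [hy, one_mul, mul_one]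
    · obtain ⟨h1, h2⟩ := ha h
      refine ⟨_, inf_le_left, h1, h2, ⟨htS, ?_⟩, inf_le_right⟩
      exact mem_centralizer_iff.2 fun y hy => mem_centralizer_singleton_iff.1 (hOC hy)
  have hRC : R ≤ C := hRS.trans hSC
  obtain ⟨s, hsS, hsR⟩ : ∃ s ∈ (S : Subgroup G), s ∉ R := by
    by_contra h
    push Not at h
    rw [relIndex_eq_one.2 h] at hRi
    omega
  have hsprop : s * s = 1 ∧ ∀ x ∈ R, s * x * s⁻¹ = x⁻¹ := by
    have hinj : Function.Injective eS.toMonoidHom := eS.injective
    set R₀ := (R.subgroupOf (S : Subgroup G)).map eS.toMonoidHom with hR₀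
    have hc₀ : IsCyclic R₀ := by
      haveI := hRcyc
      exact isCyclic_of_surjective _ ((subgroupOfEquivOfLe hRS).symm.trans
        ((R.subgroupOf (S : Subgroup G)).equivMapOfInjective _ hinj)).surjective
    have hi₀ : R₀.index = 2 := by
      rw [hR₀, index_map_of_bijective eS.bijective]; exact hRi
    have hs₀ : eS ⟨s, hsS⟩ ∉ R₀ := by
      rintro ⟨y, hy, hys⟩
      have h' : (y : G) = s := congrArg Subtype.val (hinj hys)
      exact hsR (h' ▸ (mem_subgroupOf.1 hy))
    obtain ⟨h1, h2⟩ := dihedral_cyclic_index_two hn R₀ hc₀ hi₀ _ hs₀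
    refine ⟨?_, fun x hx => ?_⟩
    · rw [← map_mul, ← map_one eS] at h1
      exact congrArg Subtype.val (eS.injective h1)
    · have h3 := h2 (eS ⟨x, hRS hx⟩) ⟨_, hx, rfl⟩
      rw [← map_inv, ← map_inv, ← map_mul, ← map_mul] at h3
      exact congrArg Subtype.val (eS.injective h3)
  obtain ⟨hs2, hsinv⟩ := hsprop
  have hs : orderOf s = 2 :=
    orderOf_eq_prime (by rw [pow_two, hs2]) (fun h => hsR (h ▸ R.one_mem))
  have hsO : ∀ y ∈ O, s * y * s⁻¹ = y⁻¹ := by
    intro y hy
    by_cases h : O = ⊥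
    · rw [h, mem_bot] at hy; rw [hy]; group
    · refine hb s hsS (fun hsc => ?_) y hy
      obtain ⟨-, h2⟩ := ha h
      -- `R` is the whole of `S ∩ C(O)`
      have hle : R ≤ (S : Subgroup G) ⊓ centralizer (O : Set G) := le_inf hRS hRO
      have h4 := relIndex_mul_relIndex _ _ _ hle inf_le_left
      rw [h2, hRi] at h4
      have h5 : R.relIndex ((S : Subgroup G) ⊓ centralizer (O : Set G)) = 1 := by omega
      exact hsR (relIndex_eq_one.1 h5 ⟨hsS, hsc⟩)
  have hOab : ∀ a ∈ O, ∀ b ∈ O, a * b = b * a := by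
    intro a ha' b hb'
    have h1 := hsO (a * b) (O.mul_mem ha' hb')
    have h2 : s * (a * b) * s⁻¹ = (s * a * s⁻¹) * (s * b * s⁻¹) := by group
    rw [h2, hsO a ha', hsO b hb'] at h1
    have := congrArg (·⁻¹) h1
    simpa using this.symm
  -- `K = O R`
  set K := O ⊔ R with hKdef
  have hKC : K ≤ C := sup_le hOC hRC
  have hmemK : ∀ x ∈ K, ∃ a ∈ O, ∃ r ∈ R, x = a * r := by
    intro x hx
    have hn' : R ≤ normalizer (O : Set G) :=
      hRO.trans (centralizer_le_normalizer (G := G) (O : Set G))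
    have hset : (K : Set G) = (R : Set G) * (O : Set G) := by
      rw [hKdef, sup_comm]; exact coe_mul_of_left_le_normalizer_right R O hn'
    have hx' : x ∈ (K : Set G) := hx
    rw [hset] at hx'
    obtain ⟨r, hr, a, ha', rfl⟩ := Set.mem_mul.1 hx'
    exact ⟨a, ha', r, hr, (mem_centralizer_iff.1 (hRO hr) a ha').symm⟩
  haveI hRab : IsMulCommutative R := IsCyclic.isMulCommutative
  have hKab' : ∀ x ∈ K, ∀ y ∈ K, x * y = y * x := by
    intro x hx y hy
    obtain ⟨a, ha', r, hr, rfl⟩ := hmemK x hx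
    obtain ⟨b, hb', r', hr', rfl⟩ := hmemK y hy
    exact Commute.eq ((Commute.mul_right (hOab a ha' b hb')
      (mem_centralizer_iff.1 (hRO hr') a ha')).mul_left
      (Commute.mul_right (mem_centralizer_iff.1 (hRO hr) b hb').symm
        (setLike_mul_comm (S := Subgroup G) hr hr')))
  have hKab : IsMulCommutative K := ⟨⟨fun a b => Subtype.ext (hKab' a a.2 b b.2)⟩⟩
  have hinvK : ∀ x ∈ K, s * x * s⁻¹ = x⁻¹ := by
    intro x hx
    obtain ⟨a, ha', r, hr, rfl⟩ := hmemK x hx
    rw [show s * (a * r) * s⁻¹ = (s * a * s⁻¹) * (s * r * s⁻¹) by group, hsO a ha', hsinv r hr,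
      mul_inv_rev]
    exact hKab' _ (K.inv_mem (mem_sup_left ha')) _ (K.inv_mem (mem_sup_right hr))
  have hodd_pow : ∀ a ∈ O, a * a = 1 → a = 1 := by
    intro a ha' haa
    have h1 : orderOf a ∣ 2 := orderOf_dvd_of_pow_eq_one (by rw [pow_two, haa])
    have h2 : orderOf a ∣ Nat.card O := Subgroup.orderOf_dvd_natCard _ ha'
    have h3 := Nat.dvd_gcd h1 h2
    rw [Nat.coprime_two_left.2 hOodd] at h3
    exact orderOf_eq_one_iff.1 (Nat.dvd_one.1 h3)
  have hOR : ∀ a ∈ O, a ∈ (S : Subgroup G) → a = 1 := by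
    intro a ha' haS
    obtain ⟨j, hj⟩ := S.2 ⟨a, haS⟩
    have h1 : orderOf a ∣ 2 ^ j := orderOf_dvd_of_pow_eq_one (congrArg Subtype.val hj)
    have h2 : orderOf a ∣ Nat.card O := Subgroup.orderOf_dvd_natCard _ ha'
    have h3 := Nat.dvd_gcd h1 h2
    rw [Nat.Coprime.pow_left j (Nat.coprime_two_left.2 hOodd)] at h3
    exact orderOf_eq_one_iff.1 (Nat.dvd_one.1 h3)
  -- square roots of one in `K`
  have hsq : ∀ x ∈ K, x * x = 1 → x ∈ zpowers t := by
    intro x hx hxx
    obtain ⟨a, ha', r, hr, rfl⟩ := hmemK x hx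
    have hc' := hKab' a (mem_sup_left ha') r (mem_sup_right hr)
    have h1 : (a * a) * (r * r) = 1 := by
      calc (a * a) * (r * r) = a * (a * r) * r := by group
        _ = a * (r * a) * r := by rw [hc']
        _ = (a * r) * (a * r) := by group
        _ = 1 := hxx
    have h2 : a * a ∈ (S : Subgroup G) := by
      rw [eq_inv_of_mul_eq_one_left h1]
      exact inv_mem (mul_mem (hRS hr) (hRS hr))
    have h3 := hOR _ (O.mul_mem ha' ha') h2
    have ha1 := hodd_pow a ha' h3
    rw [h3, one_mul] at h1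
    rw [ha1, one_mul]
    by_cases hr1 : r = 1
    · exact hr1 ▸ (zpowers t).one_mem
    have hro : orderOf r = 2 := orderOf_eq_prime (by rw [pow_two, h1]) hr1
    haveI := hRcyc
    haveI := Fintype.ofFinite R
    have hcard := IsCyclic.card_pow_eq_one_le (α := R) (n := 2) (by norm_num)
    by_contra hne
    have hsub : ({1, ⟨t, htR⟩, ⟨r, hr⟩} : Finset R) ⊆ Finset.univ.filter (fun y : R => y ^ 2 = 1) := by
      intro y hy
      simp only [Finset.mem_insert, Finset.mem_singleton] at hy
      rw [Finset.mem_filter]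
      refine ⟨Finset.mem_univ _, ?_⟩
      rcases hy with rfl | rfl | rfl
      · simp
      · apply Subtype.ext; simpa [ht] using pow_orderOf_eq_one t
      · apply Subtype.ext; simpa [hro] using pow_orderOf_eq_one r
    have ht1 : (⟨t, htR⟩ : R) ≠ 1 := fun h => by
      rw [Subtype.ext_iff] at h; simp only [OneMemClass.coe_one] at h
      rw [h, orderOf_one] at ht; omega
    have hr1' : (⟨r, hr⟩ : R) ≠ 1 := fun h => hr1 (congrArg Subtype.val h)
    have hrt : (⟨t, htR⟩ : R) ≠ ⟨r, hr⟩ := fun h => hne (by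
      have h' : t = r := congrArg Subtype.val h
      exact h' ▸ mem_zpowers t)
    have h5 := (Finset.card_le_card hsub).trans hcard
    rw [Finset.card_insert_of_notMem (by simp [ht1.symm, hr1'.symm]),
      Finset.card_insert_of_notMem (by simp [hrt]), Finset.card_singleton] at h5
    omega
  have hsK : s ∉ K := by
    intro h
    obtain ⟨a, ha', r, hr, hsar⟩ := hmemK s h
    have : a ∈ (S : Subgroup G) := by
      rw [show a = s * r⁻¹ by rw [hsar]; group]; exact mul_mem hsS (inv_mem (hRS hr))
    rw [hOR a ha' this, one_mul] at hsar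
    exact hsR (hsar ▸ hr)
  have hsC : s ∈ C := hSC hsS
  have hKs : K ⊔ zpowers s = C := by
    refine le_antisymm (sup_le hKC (zpowers_le.2 hsC)) ?_
    rw [← hOS]
    refine sup_le (le_sup_left.trans le_sup_left) fun x hx => ?_
    by_cases hxR : x ∈ R
    · exact mem_sup_left (mem_sup_right hxR)
    have h := (Subgroup.mul_mem_iff_of_index_two (show (R.subgroupOf (S : Subgroup G)).index = 2 from hRi)
      (a := (⟨s, hsS⟩ : (S : Subgroup G))) (b := ⟨x, hx⟩)).2
    simp only [Subgroup.mem_subgroupOf, Subgroup.coe_mul] at h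
    have h1 : s * x ∈ R := h (iff_of_false hsR hxR)
    have h2 := mul_mem (mem_sup_right (mem_zpowers s) : s ∈ K ⊔ zpowers s)
      (mem_sup_left (mem_sup_right h1) : s * x ∈ K ⊔ zpowers s)
    rwa [← mul_assoc, hs2, one_mul] at h2
  have hCK : K ⊓ centralizer ({s} : Set G) = zpowers t := by
    refine le_antisymm ?_ (zpowers_le.2 ⟨mem_sup_right htR, ?_⟩)
    · rintro x ⟨hx, hxs⟩
      refine hsq x hx ?_
      have h := hinvK x hx
      rw [mem_centralizer_singleton_iff.1 (show x ∈ centralizer ({s} : Set G) from hxs) |>.symm,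
        mul_inv_cancel_right] at h
      exact mul_eq_one_iff_eq_inv.2 h
    · exact mem_centralizer_singleton_iff.2 ((htZ s hsS).symm)
  -- `K` is a TI-subgroup
  have ht1 : t ≠ 1 := fun h => by rw [h, orderOf_one] at ht; omega
  have hinvt : ∀ x ∈ K, orderOf x = 2 → x = t := by
    intro x hx hxo
    obtain ⟨k, hk⟩ := mem_zpowers_iff.1 (hsq x hx (by rw [← pow_two, ← hxo, pow_orderOf_eq_one]))
    rw [← zpow_mod_orderOf, ht] at hk
    rcases Int.emod_two_eq_zero_or_one k with h0 | h0
    · rw [show ((2 : ℕ) : ℤ) = 2 by norm_num, h0, zpow_zero] at hk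
      rw [← hk, orderOf_one] at hxo; omega
    · rw [show ((2 : ℕ) : ℤ) = 2 by norm_num, h0, zpow_one] at hk; exact hk.symm
  have hTI : ∀ g : G, g ∉ C → K ⊓ K.map (MulAut.conj g).toMonoidHom = ⊥ := by
    intro g hg
    rw [eq_bot_iff]
    rintro x ⟨hxK, y, hy, hxy⟩
    rw [mem_bot]
    by_contra hx1
    have hxy' : g * y * g⁻¹ = x := hxy
    have hy1 : y ≠ 1 := fun h => hx1 (by rw [← hxy', h]; group)
    apply hg
    have hfin : ∀ z : G, z ∈ K → z = g * t * g⁻¹ → g ∈ C := by
      intro z hz hzg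
      have h := hinvt z hz (by rw [hzg, ← MulAut.conj_apply, MulEquiv.orderOf_eq, ht])
      rw [h] at hzg
      exact mem_centralizer_singleton_iff.2 (mul_inv_eq_iff_eq_mul.1 hzg.symm)
    rcases Nat.even_or_odd (orderOf y) with hev | hod
    · obtain ⟨j, hj⟩ := even_iff_two_dvd.1 hev
      have hy2 : orderOf (y ^ j) = 2 := by
        rw [orderOf_pow, hj, Nat.gcd_mul_left_left, Nat.mul_div_cancel]
        exact Nat.pos_of_ne_zero fun h => by
          rw [h, mul_zero] at hj; exact (orderOf_pos y).ne' hj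
      refine hfin (x ^ j) (K.pow_mem hxK j) ?_
      rw [← hxy', conj_pow, hinvt _ (K.pow_mem hy j) hy2]
    · -- elements of odd order lie in `O`
      have hinO : ∀ z ∈ K, Odd (orderOf z) → z ∈ O := by
        intro z hz hzo
        obtain ⟨a, ha', r, hr, rfl⟩ := hmemK z hz
        have hc' : Commute a r := hKab' a (mem_sup_left ha') r (mem_sup_right hr)
        set m := orderOf (a * r)
        have h1 : a ^ m * r ^ m = 1 := by rw [← hc'.mul_pow, pow_orderOf_eq_one]
        have h2 : a ^ m ∈ (S : Subgroup G) := by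
          rw [eq_inv_of_mul_eq_one_left h1]; exact inv_mem (pow_mem (hRS hr) m)
        rw [hOR _ (O.pow_mem ha' m) h2, one_mul] at h1
        obtain ⟨j, hj⟩ := S.2 ⟨r, hRS hr⟩
        have h3 : orderOf r ∣ 2 ^ j := orderOf_dvd_of_pow_eq_one (congrArg Subtype.val hj)
        have h4 := Nat.dvd_gcd h3 (orderOf_dvd_of_pow_eq_one h1)
        rw [Nat.Coprime.pow_left j (Nat.coprime_two_left.2 hzo)] at h4
        rw [orderOf_eq_one_iff.1 (Nat.dvd_one.1 h4), mul_one]
        exact ha'
      have hxo : Odd (orderOf x) := by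
        rw [← hxy', ← MulAut.conj_apply, MulEquiv.orderOf_eq]; exact hod
      have hxO := hinO x hxK hxo
      have hyO := hinO y hy hod
      have hCx : centralizer ({x} : Set G) ≤ C := by
        refine le_trans ?_ (hc (zpowers x) (zpowers_le.2 hxO) (zpowers_ne_bot.2 hx1))
        refine le_trans ?_ (centralizer_le_normalizer (G := G) _)
        intro w hw
        refine mem_centralizer_iff.2 fun v hv => ?_
        obtain ⟨i, rfl⟩ := mem_zpowers_iff.1 hv
        exact ((Commute.zpow_right (mem_centralizer_singleton_iff.1 hw : Commute w x) i).eq).symm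
      set z := g * t * g⁻¹ with hz
      have hzx : z ∈ centralizer ({x} : Set G) := by
        rw [mem_centralizer_singleton_iff, hz, ← hxy']
        calc g * t * g⁻¹ * (g * y * g⁻¹) = g * (t * y) * g⁻¹ := by group
          _ = g * (y * t) * g⁻¹ := by rw [mem_centralizer_singleton_iff.1 (hOC hyO)]
          _ = g * y * g⁻¹ * (g * t * g⁻¹) := by group
      refine hfin z ?_ rfl
      by_contra hzK
      have hzC : z ∈ C := hCx hzx
      rw [← hKs] at hzC
      have hn' : zpowers s ≤ normalizer (K : Set G) := by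
        rw [zpowers_le, mem_normalizer_iff]
        intro v
        constructor
        · intro hv; rw [hinvK v hv]; exact K.inv_mem hv
        · intro hv
          have := hinvK _ hv
          rw [show v = s * (s * v * s⁻¹) * s⁻¹ by
            rw [show s * (s * v * s⁻¹) * s⁻¹ = (s * s) * v * (s * s)⁻¹ by group, hs2, inv_one, one_mul, mul_one],
            this]
          exact K.inv_mem hv
      have hset : ((K ⊔ zpowers s : Subgroup G) : Set G) = (zpowers s : Set G) * (K : Set G) := by
        rw [sup_comm]; exact coe_mul_of_left_le_normalizer_right _ K hn'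
      have hzC' : z ∈ ((K ⊔ zpowers s : Subgroup G) : Set G) := hzC
      rw [hset] at hzC'
      obtain ⟨e, he, k₀, hk₀, hek⟩ := Set.mem_mul.1 hzC'
      obtain ⟨i, rfl⟩ := mem_zpowers_iff.1 he
      rw [← zpow_mod_orderOf, hs] at hek
      rcases Int.emod_two_eq_zero_or_one i with h0 | h0
      · rw [show ((2 : ℕ) : ℤ) = 2 by norm_num, h0, zpow_zero, one_mul] at hek
        exact hzK (hek ▸ hk₀)
      · rw [show ((2 : ℕ) : ℤ) = 2 by norm_num, h0, zpow_one] at hek
        have h1 : x * x = 1 := by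
          have h2 := mem_centralizer_singleton_iff.1 hzx
          rw [← hek] at h2
          have h3 : s * x * s⁻¹ = x := by
            calc s * x * s⁻¹ = s * (x * k₀) * k₀⁻¹ * s⁻¹ := by group
              _ = s * (k₀ * x) * k₀⁻¹ * s⁻¹ := by rw [hKab' x hxK k₀ hk₀]
              _ = (s * k₀ * x) * (s * k₀)⁻¹ := by group
              _ = x * (s * k₀) * (s * k₀)⁻¹ := by rw [h2]
              _ = x := by group
          rw [hinvK x hxK] at h3
          calc x * x = x⁻¹ * x := by rw [h3]
            _ = 1 := inv_mul_cancel x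
        exact hx1 (hodd_pow x hxO h1)
  exact psl_or_card_twelve t ht K hKab hKC (mem_sup_right htR) s hs hsC hsK hKs hCK hinvK hTI hone

end CfsgLib.BSWId
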