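import Cfsg.Agent.S3282
import Cfsg.Agent.S0731

/-!
# The Brauer–Suzuki–Wall theorem: identification

Under the hypotheses of the abstract form `S3282`, the group is `PSL₂(K)` for a field `K` of odd
order, or has order twelve: it is a Zassenhaus group with abelian kernel on the cosets of `N(Q)`.
-/

set_option autoImplicit false

namespace CfsgLib.BSWId

open Subgroup
open scoped Pointwise

variable {G : Type*} [Group G] [Finite G]

/-- A normal subgroup contains every conjugate. -/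
theorem mem_of_isConj {M : Subgroup G} [hM : M.Normal] {x y : G} (h : IsConj x y) (hx : x ∈ M) :
    y ∈ M := by
  obtain ⟨c, hc⟩ := isConj_iff.1 h
  exact hc ▸ hM.conj_mem x hx c

/-- The coset action of the normaliser of `Q`. -/
theorem psl_or_card_twelve (t : G) (ht : orderOf t = 2)
    (K : Subgroup G) (hKab : IsMulCommutative ↥K) (hKH : K ≤ Subgroup.centralizer ({t} : Set G)) (htK : t ∈ K)
    (s : G) (hs : orderOf s = 2) (hsH : s ∈ Subgroup.centralizer ({t} : Set G)) (hsK : s ∉ K)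
    (hH : K ⊔ Subgroup.zpowers s = Subgroup.centralizer ({t} : Set G))
    (hCK : K ⊓ Subgroup.centralizer ({s} : Set G) = Subgroup.zpowers t)
    (hinv : ∀ x ∈ K, s * x * s⁻¹ = x⁻¹)
    (hTI : ∀ g : G, g ∉ Subgroup.centralizer ({t} : Set G) → K ⊓ K.map (MulAut.conj g).toMonoidHom = ⊥)
    (hconj : ∀ x y : G, orderOf x = 2 → orderOf y = 2 → IsConj x y) :
    Nat.card G = 12 ∨ ∃ (F : Type) (_ : Field F) (_ : Fintype F), ringChar F ≠ 2 ∧
      Nonempty (G ≃* Matrix.ProjectiveSpecialLinearGroup (Fin 2) F) := by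
  classical
  obtain ⟨Q, D, hord, hCQ, hDab, hcD, hQD, hN, hX⟩ :=
    Cfsg.Agent.S3282.result t ht K hKab hKH htK s hs hsH hsK hH hCK hinv hTI hconj
  set q := Nat.card ↥Q with hq
  set d := Nat.card ↥D with hd
  have hd0 : 0 < d := Nat.card_pos
  by_cases hd1 : d = 1
  · left
    have hq3 : q = 3 := by omega
    rw [hq3] at hord
    omega
  right
  set N := normalizer (Q : Set G) with hNdef
  have hQN : Q ≤ N := le_normalizer
  have hDN : D ≤ N := hN ▸ le_sup_right
  -- the order of `N`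
  have hDQ : D ≤ normalizer (Q : Set G) := hDN
  have hNset : (N : Set G) = (D : Set G) * (Q : Set G) := by
    rw [show N = D ⊔ Q by rw [sup_comm]; exact hN]
    exact coe_mul_of_left_le_normalizer_right D Q hDQ
  have hNc : Nat.card ↥N = d * q := by
    have hbij : Function.Bijective
        (fun x : D × Q => (⟨x.1 * x.2, N.mul_mem (hDN x.1.2) (hQN x.2.2)⟩ : N)) := by
      constructor
      · rintro ⟨a, b⟩ ⟨a', b'⟩ h
        have h' : (a : G) * b = a' * b' := congrArg Subtype.val h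
        have h1 : (a' : G)⁻¹ * a = b' * (b : G)⁻¹ := by
          calc (a' : G)⁻¹ * a = (a' : G)⁻¹ * ((a : G) * b) * (b : G)⁻¹ := by group
            _ = (a' : G)⁻¹ * ((a' : G) * b') * (b : G)⁻¹ := by rw [h']
            _ = _ := by group
        have h2 : (a' : G)⁻¹ * a ∈ Q ⊓ D :=
          ⟨h1 ▸ Q.mul_mem b'.2 (Q.inv_mem b.2), D.mul_mem (D.inv_mem a'.2) a.2⟩
        rw [hQD, mem_bot] at h2
        have ha : a' = a := Subtype.ext (inv_mul_eq_one.1 h2)
        subst ha
        exact Prod.ext rfl (Subtype.ext (mul_left_cancel h'))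
      · rintro ⟨x, hx⟩
        have hx' : x ∈ (N : Set G) := hx
        rw [hNset] at hx'
        obtain ⟨a, ha, b, hb, hab⟩ := Set.mem_mul.1 hx'
        exact ⟨(⟨a, ha⟩, ⟨b, hb⟩), Subtype.ext hab⟩
    rw [hd, hq, ← Nat.card_eq_of_bijective _ hbij, Nat.card_prod]
  have hcG : Nat.card G = (q + 1) * (d * q) := by
    have : 2 * Nat.card G = 2 * ((q + 1) * (d * q)) := by
      rw [hord, show q - 1 = 2 * d by omega]; ring
    omega
  have hidx : N.index = q + 1 := by
    have h := N.index_mul_card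
    rw [hNc, hcG] at h
    exact Nat.eq_of_mul_eq_mul_right (Nat.mul_pos hd0 Nat.card_pos) h
  have hcopQD : q.Coprime d := by
    rw [show q = 1 + 2 * d by omega]
    exact (Nat.coprime_add_mul_right_left 1 d 2).2 (Nat.coprime_one_left d)
  have hQnN : (Q.subgroupOf N).Normal := inferInstance
  -- elements of `N` killed by `q` lie in `Q`
  have hpowQ : ∀ x ∈ N, x ^ q = 1 → x ∈ Q := by
    intro x hx hxq
    have hidxQ : (Q.subgroupOf N).index = d := by
      have h := (Q.subgroupOf N).index_mul_card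
      rw [Nat.card_congr (subgroupOfEquivOfLe hQN).toEquiv, ← hq, hNc] at h
      exact Nat.eq_of_mul_eq_mul_right Nat.card_pos h
    have hxd : (⟨x, hx⟩ : N) ^ d ∈ Q.subgroupOf N := by
      rw [← hidxQ]; exact (Q.subgroupOf N).pow_index_mem _
    rw [mem_subgroupOf] at hxd
    push_cast at hxd
    have h1 : x ^ (1 : ℤ) ∈ Q := by
      have hb : (1 : ℤ) = q * Nat.gcdA q d + d * Nat.gcdB q d := by
        have := Nat.gcd_eq_gcd_ab q d
        rw [hcopQD] at this
        exact_mod_cast this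
      rw [hb, zpow_add, zpow_mul, zpow_mul, zpow_natCast, zpow_natCast, hxq, one_zpow, one_mul]
      exact Q.zpow_mem hxd _
    rwa [zpow_one] at h1
  -- `Q` acts semiregularly on the other cosets
  have hsemi : ∀ u ∈ Q, u ≠ 1 → ∀ g : G, g⁻¹ * u * g ∈ N → g ∈ N := by
    intro u hu hu1 g hg
    have hgQ : g⁻¹ * u * g ∈ Q := by
      refine hpowQ _ hg ?_
      have := conj_pow (i := q) (a := g⁻¹) (b := u)
      rw [inv_inv] at this
      rw [this, hq, orderOf_dvd_iff_pow_eq_one.1 (Subgroup.orderOf_dvd_natCard Q hu)]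
      group
    have hne : g⁻¹ * u * g ≠ 1 := by
      intro h; apply hu1
      calc u = g * (g⁻¹ * u * g) * g⁻¹ := by group
        _ = 1 := by rw [h]; group
    refine mem_normalizer_iff.2 fun y => ?_
    have e1 := hCQ u hu hu1
    have e2 := hCQ _ hgQ hne
    have k1 : y ∈ Q ↔ y * (g⁻¹ * u * g) = g⁻¹ * u * g * y := by
      conv_lhs => rw [← e2]
      rw [mem_centralizer_singleton_iff]
    have k2 : g * y * g⁻¹ ∈ Q ↔ g * y * g⁻¹ * u = u * (g * y * g⁻¹) := by
      conv_lhs => rw [← e1]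
      rw [mem_centralizer_singleton_iff]
    rw [k1, k2]
    constructor <;> intro h
    · calc g * y * g⁻¹ * u = g * (y * (g⁻¹ * u * g)) * g⁻¹ := by group
        _ = g * (g⁻¹ * u * g * y) * g⁻¹ := by rw [h]
        _ = u * (g * y * g⁻¹) := by group
    · calc y * (g⁻¹ * u * g) = g⁻¹ * (g * y * g⁻¹ * u) * g := by group
        _ = g⁻¹ * (u * (g * y * g⁻¹)) * g := by rw [h]
        _ = g⁻¹ * u * g * y := by group
  -- the cosets
  haveI : Finite (G ⧸ N) := inferInstance
  haveI := Fintype.ofFinite (G ⧸ N)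
  let o : G ⧸ N := ((1 : G) : G ⧸ N)
  have hstab : MulAction.stabilizer G o = N := MulAction.stabilizer_quotient N
  have hmov : ∀ u ∈ Q, ∀ y : G ⧸ N, y ≠ o → u • y = y → u = 1 := by
    intro u hu y
    induction y using QuotientGroup.induction_on with
    | H g =>
      intro hy h
      by_contra hu1
      apply hy
      have h' : ((u * g : G) : G ⧸ N) = (g : G ⧸ N) := h
      rw [QuotientGroup.eq] at h'
      have h'' : g⁻¹ * u * g ∈ N := by
        have := N.inv_mem h'
        rwa [show ((u * g)⁻¹ * g)⁻¹ = g⁻¹ * u * g by group] at this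
      have hgN := hsemi u hu hu1 g h''
      show ((g : G) : G ⧸ N) = ((1 : G) : G ⧸ N)
      rw [QuotientGroup.eq]
      simpa using hgN
  have hQo : ∀ u ∈ Q, u • o = o := fun u hu => by
    rw [← MulAction.mem_stabilizer_iff, hstab]; exact hQN hu
  have hreg : ∀ y z : G ⧸ N, y ≠ o → z ≠ o → ∃! u : Q, (u : G) • y = z := by
    intro y z hy hz
    have himg : ∀ u : Q, (u : G) • y ≠ o := fun u h => hy (by
      have := congrArg (fun w => (u : G)⁻¹ • w) h
      simp only [inv_smul_smul] at this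
      rw [this, hQo _ (Q.inv_mem u.2)])
    let f : Q → {w : G ⧸ N // w ≠ o} := fun u => ⟨(u : G) • y, himg u⟩
    have hinj : Function.Injective f := by
      intro u v h
      have h' : (u : G) • y = (v : G) • y := congrArg Subtype.val h
      have := hmov ((v : G)⁻¹ * u) (Q.mul_mem (Q.inv_mem v.2) u.2) y hy
        (by rw [mul_smul, h', inv_smul_smul])
      exact Subtype.ext (inv_mul_eq_one.1 this).symm
    have hc : Nat.card {w : G ⧸ N // w ≠ o} = q := by
      rw [Nat.card_eq_fintype_card, Fintype.card_subtype_compl, Fintype.card_subtype_eq,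
        ← Nat.card_eq_fintype_card, ← index_eq_card, hidx]
      omega
    haveI := Fintype.ofFinite ↥Q
    have hbij : Function.Bijective f :=
      (Fintype.bijective_iff_injective_and_card f).2 ⟨hinj, by
        rw [← Nat.card_eq_fintype_card, ← Nat.card_eq_fintype_card, hc]⟩
    obtain ⟨u, hu⟩ := hbij.2 ⟨z, hz⟩
    exact ⟨u, congrArg Subtype.val hu, fun v hv => hinj (Subtype.ext
      (hv.trans (congrArg Subtype.val hu).symm))⟩
  have hnt : ∃ y : G ⧸ N, y ≠ o := by
    by_contra h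
    push Not at h
    haveI : Subsingleton (G ⧸ N) := ⟨fun a b => (h a).trans (h b).symm⟩
    have := N.index_eq_card
    rw [hidx, Nat.card_unique] at this
    omega
  obtain ⟨y₀, hy₀⟩ := hnt
  -- two-transitivity
  have h2 : MulAction.IsMultiplyPretransitive G (G ⧸ N) 2 := by
    refine MulAction.is_two_pretransitive_iff.2 ?_
    intro a b c e hab hce
    obtain ⟨g₁, h₁⟩ := MulAction.exists_smul_eq G a o
    obtain ⟨g₂, h₂⟩ := MulAction.exists_smul_eq G c o
    have hb : g₁ • b ≠ o := fun h => hab (smul_left_cancel g₁ (h₁.trans h.symm))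
    have he : g₂ • e ≠ o := fun h => hce (smul_left_cancel g₂ (h₂.trans h.symm))
    obtain ⟨u, hu, -⟩ := hreg _ _ hb he
    refine ⟨g₂⁻¹ * (u * g₁), ?_, ?_⟩
    · rw [mul_smul, mul_smul, h₁, hQo _ u.2, ← h₂, inv_smul_smul]
    · rw [mul_smul, mul_smul, hu, inv_smul_smul]
  -- three fixed points
  have h3 : ∀ g : G, ∀ a b c : G ⧸ N, a ≠ b → b ≠ c → a ≠ c → g • a = a → g • b = b → g • c = c →
      g = 1 := by
    intro g a b c hab hbc hac ha hb hc
    obtain ⟨g₁, h₁⟩ := MulAction.exists_smul_eq G a o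
    set h := g₁ * g * g₁⁻¹ with hh
    have fix : ∀ w : G ⧸ N, g • w = w → h • (g₁ • w) = g₁ • w := fun w hw => by
      rw [hh, smul_smul, inv_mul_cancel_right, mul_smul, hw]
    have ho : h • o = o := h₁ ▸ fix a ha
    have hhN : h ∈ N := by rw [← hstab]; exact ho
    have hb' : g₁ • b ≠ o := fun h' => hab (smul_left_cancel g₁ (h₁.trans h'.symm))
    have hc' : g₁ • c ≠ o := fun h' => hac (smul_left_cancel g₁ (h₁.trans h'.symm))
    obtain ⟨u, hu, huu⟩ := hreg _ _ hb' hc'
    have hu' : h * u * h⁻¹ ∈ Q := (mem_normalizer_iff.1 hhN _).1 u.2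
    have heq : (⟨h * u * h⁻¹, hu'⟩ : Q) = u := by
      refine huu _ ?_
      show (h * (u : G) * h⁻¹) • (g₁ • b) = g₁ • c
      have hbi : h⁻¹ • (g₁ • b) = g₁ • b := inv_smul_eq_iff.2 (fix b hb).symm
      rw [mul_smul, mul_smul, hbi, hu, fix c hc]
    have hcomm : h * u = u * h := by
      have := congrArg Subtype.val heq
      calc h * (u : G) = (h * u * h⁻¹) * h := by group
        _ = u * h := by rw [show h * (u : G) * h⁻¹ = u from this]
    have hu1 : (u : G) ≠ 1 := by
      intro hu1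
      rw [hu1, one_smul] at hu
      exact hbc (smul_left_cancel g₁ hu)
    have hhQ : h ∈ Q := by
      rw [← hCQ _ u.2 hu1, mem_centralizer_singleton_iff]; exact hcomm
    have h1 := hmov h hhQ _ hb' (fix b hb)
    rw [hh] at h1
    calc g = g₁⁻¹ * (g₁ * g * g₁⁻¹) * g₁ := by group
      _ = 1 := by rw [h1]; group
  -- a normal subgroup inside `N` is trivial
  have hfaith : ∀ M : Subgroup G, M.Normal → M ≤ N → M = ⊥ := by
    intro M hM hMN
    by_contra hne
    by_cases hMQ : M ⊓ Q = ⊥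
    · obtain ⟨x, hxM, hx1⟩ := M.bot_or_exists_ne_one.resolve_left hne
      haveI : Nontrivial Q := Finite.one_lt_card_iff_nontrivial.1 (by omega)
      obtain ⟨⟨u, hu⟩, hu1⟩ := exists_ne (1 : Q)
      have hu1' : u ≠ 1 := fun h => hu1 (Subtype.ext h)
      have hxu : x * u * x⁻¹ * u⁻¹ ∈ M ⊓ Q := by
        refine ⟨?_, Q.mul_mem ((mem_normalizer_iff.1 (hMN hxM) u).1 hu) (Q.inv_mem hu)⟩
        rw [show x * u * x⁻¹ * u⁻¹ = x * (u * x⁻¹ * u⁻¹) by group]
        exact M.mul_mem hxM (hM.conj_mem _ (M.inv_mem hxM) u)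
      rw [hMQ, mem_bot] at hxu
      have hxQ : x ∈ Q := by
        rw [← hCQ u hu hu1', mem_centralizer_singleton_iff]
        calc x * u = x * u * x⁻¹ * u⁻¹ * (u * x) := by group
          _ = u * x := by rw [hxu, one_mul]
      exact hx1 (mem_bot.1 (hMQ ▸ (⟨hxM, hxQ⟩ : x ∈ M ⊓ Q)))
    · obtain ⟨x, ⟨hxM, hxQ⟩, hx1⟩ := (M ⊓ Q).bot_or_exists_ne_one.resolve_left hMQ
      have hall : ∀ g : G, g ∈ N := by
        intro g
        refine hsemi x hxQ hx1 g (hMN ?_)
        have := hM.conj_mem x hxM g⁻¹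
        rwa [inv_inv] at this
      have htop : N = ⊤ := eq_top_iff.2 fun g _ => hall g
      rw [htop, index_top] at hidx
      omega
  -- two-point stabilisers
  obtain ⟨δ, hδ, hδ1⟩ : ∃ δ ∈ D, δ ≠ 1 := by
    haveI : Nontrivial D := Finite.one_lt_card_iff_nontrivial.1 (by omega)
    obtain ⟨⟨δ, hδ⟩, h⟩ := exists_ne (1 : D)
    exact ⟨δ, hδ, fun h' => h (Subtype.ext h')⟩
  have hDo : δ • o = o := by rw [← MulAction.mem_stabilizer_iff, hstab]; exact hDN hδ
  -- normalisers of `D`
  obtain ⟨-, w, hw, hwD, hwinv, -⟩ := hX D le_rfl (fun h => hδ1 (mem_bot.1 (h ▸ hδ)))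
  have hwN : w ∉ N := by
    intro hwN
    -- `w` inverts `D` and normalises `Q`; the Sylow `2`-subgroups of `N` lie in conjugates of `D`
    have h2q : ¬ 2 ∣ q := by omega
    have hev : 2 ∣ d := by
      have h2 : 2 ∣ d * q := hNc ▸ hw ▸ Subgroup.orderOf_dvd_natCard N hwN
      exact (Nat.prime_two.dvd_mul.1 h2).resolve_right h2q
    have hmem : w ∈ (D : Set G) * (Q : Set G) := hNset ▸ hwN
    obtain ⟨δ₁, hδ₁, u, hu, huw⟩ := Set.mem_mul.1 hmem
    -- conjugation by `w` on `D` is conjugation by `u`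
    have hfix : ∀ e ∈ D, e * e = 1 := by
      intro e he
      have h1 := hwinv e he
      have hcomm : δ₁ * e = e * δ₁ := setLike_mul_comm (S := Subgroup G) hδ₁ he
      haveI := hDab
      have h2 : u * e * u⁻¹ = e⁻¹ := by
        rw [← huw] at h1
        calc u * e * u⁻¹ = δ₁⁻¹ * (δ₁ * u * e * (δ₁ * u)⁻¹) * δ₁ := by group
          _ = δ₁⁻¹ * e⁻¹ * δ₁ := by rw [h1]
          _ = δ₁⁻¹ * (e⁻¹ * δ₁) := by group
          _ = δ₁⁻¹ * (δ₁ * e⁻¹) := by
            rw [setLike_mul_comm (S := Subgroup G) (D.inv_mem he) hδ₁]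
          _ = e⁻¹ := by group
      have h3 : u * (e * u⁻¹ * e⁻¹) ∈ Q :=
        Q.mul_mem hu ((mem_normalizer_iff.1 (hDN he) _).1 (Q.inv_mem hu))
      have h4 : e⁻¹ * e⁻¹ ∈ Q ⊓ D := by
        refine ⟨?_, D.mul_mem (D.inv_mem he) (D.inv_mem he)⟩
        rw [show u * (e * u⁻¹ * e⁻¹) = (u * e * u⁻¹) * e⁻¹ by group, h2] at h3
        exact h3
      rw [hQD, mem_bot] at h4
      calc e * e = (e⁻¹ * e⁻¹)⁻¹ := by rw [mul_inv_rev, inv_inv]
        _ = 1 := by rw [h4, inv_one]
    have hd2 : IsPGroup 2 D := fun e => ⟨1, Subtype.ext (by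
      rw [pow_one, pow_two]; exact hfix e e.2)⟩
    -- then `w` centralises `D`
    have hwu : u = 1 := by
      by_contra hu1
      have hwc : u * δ = δ * u := by
        have h1 := hwinv δ hδ
        rw [← huw] at h1
        have hc : δ₁ * δ = δ * δ₁ := setLike_mul_comm (S := Subgroup G) hδ₁ hδ
        have hinvd : δ⁻¹ = δ := inv_eq_of_mul_eq_one_right (hfix δ hδ)
        rw [hinvd] at h1
        calc u * δ = δ₁⁻¹ * (δ₁ * u * δ * (δ₁ * u)⁻¹) * δ₁ * u := by group
          _ = δ₁⁻¹ * (δ * δ₁) * u := by rw [h1]; group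
          _ = δ * u := by rw [← hc]; group
      have hdQ : δ ∈ Q := by
        rw [← hCQ u hu hu1, mem_centralizer_singleton_iff]; exact hwc.symm
      exact hδ1 (mem_bot.1 (hQD ▸ (⟨hdQ, hδ⟩ : δ ∈ Q ⊓ D)))
    exact hwD (by rw [← huw, hwu, mul_one]; exact hδ₁)
  let y₁ : G ⧸ N := ((w : G) : G ⧸ N)
  have hy₁ : y₁ ≠ o := by
    intro h
    have h' : ((w : G) : G ⧸ N) = ((1 : G) : G ⧸ N) := h
    rw [QuotientGroup.eq] at h'
    exact hwN (by simpa using h')
  have hDy : δ • y₁ = y₁ := by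
    show ((δ * w : G) : G ⧸ N) = ((w : G) : G ⧸ N)
    rw [QuotientGroup.eq]
    have := N.inv_mem (hDN hδ)
    rw [← hwinv δ hδ] at this
    have hw2 : w * w = 1 := by rw [← pow_two, ← hw, pow_orderOf_eq_one]
    have hw' : w⁻¹ = w := inv_eq_of_mul_eq_one_right hw2
    rw [show (δ * w)⁻¹ * w = w⁻¹ * δ⁻¹ * w by group, hw']
    have h5 := hwinv δ⁻¹ (D.inv_mem hδ)
    rw [hw', inv_inv] at h5
    rw [h5]; exact hDN hδ
  -- no regular normal subgroup
  have hnoreg : ∀ M : Subgroup G, M.Normal → MulAction.IsPretransitive M (G ⧸ N) →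
      ∃ a : G ⧸ N, MulAction.stabilizer M a ≠ ⊥ := by
    intro M hM hMt
    by_contra hall
    push Not at hall
    -- every involution lies in `M`
    have hMN : ∀ x ∈ M, x ∈ N → x = 1 := by
      intro x hxM hxN
      have h1 : (⟨x, hxM⟩ : M) ∈ MulAction.stabilizer M o := by
        rw [MulAction.mem_stabilizer_iff]
        show x • o = o
        rw [← MulAction.mem_stabilizer_iff, hstab]; exact hxN
      rw [hall o, mem_bot] at h1
      exact congrArg Subtype.val h1
    obtain ⟨m, hm⟩ : ∃ m : M, orderOf m = 2 := by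
      haveI : Fact (Nat.Prime 2) := ⟨Nat.prime_two⟩
      refine exists_prime_orderOf_dvd_card' (G := M) 2 ?_
      have h1 : Nat.card (G ⧸ N) ∣ Nat.card M := by
        haveI := hMt
        exact MulAction.index_stabilizer_of_transitive M o ▸ (MulAction.stabilizer M o).index_dvd_card
      rw [← index_eq_card, hidx] at h1
      exact dvd_trans (by omega) h1
    haveI := hM
    have hinvM : ∀ x : G, orderOf x = 2 → x ∈ M := fun x hx =>
      mem_of_isConj (hconj _ x (by rw [Subgroup.orderOf_coe, hm]) hx) m.2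
    have hwM := hinvM w hw
    have hδ2 : w * δ * w⁻¹ * δ⁻¹ ∈ M := by
      rw [show w * δ * w⁻¹ * δ⁻¹ = w * (δ * w⁻¹ * δ⁻¹) by group]
      exact M.mul_mem hwM (hM.conj_mem _ (M.inv_mem hwM) δ)
    rw [hwinv δ hδ] at hδ2
    have := hMN _ hδ2 (N.mul_mem (N.inv_mem (hDN hδ)) (N.inv_mem (hDN hδ)))
    have hdd : δ * δ = 1 := by
      calc δ * δ = (δ⁻¹ * δ⁻¹)⁻¹ := by rw [mul_inv_rev, inv_inv]
        _ = 1 := by rw [this, inv_one]
    have hδo : orderOf δ = 2 := orderOf_eq_prime (by rw [pow_two, hdd]) hδ1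
    exact hδ1 (hMN δ (hinvM δ hδo) (hDN hδ))
  have hker : ∀ g : G, (∀ z : G ⧸ N, g • z = z) → g = 1 := by
    intro g hg
    have := hfaith (MulAction.toPermHom G (G ⧸ N)).ker inferInstance (fun x hx => by
      rw [← hstab, MulAction.mem_stabilizer_iff]
      have := congrArg (fun σ => σ o) (MonoidHom.mem_ker.1 hx)
      simpa using this)
    have hgk : g ∈ (MulAction.toPermHom G (G ⧸ N)).ker := by
      rw [MonoidHom.mem_ker]; ext z; simpa using hg z
    rw [this] at hgk
    exact mem_bot.1 hgk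
  have hZ : Cfsg.IsZassenhausGroup G (G ⧸ N) :=
    ⟨⟨fun {g₁ g₂} h => by
      have := hker (g₂⁻¹ * g₁) fun z => by rw [mul_smul, h z, inv_smul_smul]
      exact (inv_mul_eq_one.1 this).symm⟩, h2, h3,
      ⟨δ, hδ1, o, y₁, hy₁.symm, hDo, hDy⟩, hnoreg⟩
  have hQab : IsMulCommutative Q := ⟨⟨fun a b => by
    by_cases hb : (b : G) = 1
    · apply Subtype.ext; simp [hb]
    · apply Subtype.ext
      exact mem_centralizer_singleton_iff.1 ((hCQ _ b.2 hb).symm ▸ a.2)⟩⟩
  rcases Cfsg.Agent.S0731.result hZ o Q (by rw [hstab]; exact hQN)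
      (by rw [hstab]; exact hQnN) hQab hreg with ⟨h3t, hsharp⟩ | h
  · exfalso
    have hcard : Nat.card G = (q + 1) * q * (q - 1) := by
      obtain ⟨emb⟩ : Nonempty (Fin 3 ↪ G ⧸ N) := by
        apply Function.Embedding.nonempty_of_card_le
        rw [Fintype.card_fin, ← Nat.card_eq_fintype_card, ← index_eq_card, hidx]
        omega
      haveI := h3t
      have hi := MulAction.index_stabilizer_of_transitive G emb
      rw [hsharp emb, index_bot] at hi
      rw [hi, Nat.card_eq_fintype_card, Fintype.card_embedding_eq, Fintype.card_fin,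
        ← Nat.card_eq_fintype_card, ← index_eq_card, hidx]
      simp [Nat.descFactorial_succ]
      ring
    have h' : Nat.card G = q * (q + 1) * (q - 1) := by rw [hcard]; ring
    have : 0 < Nat.card G := Nat.card_pos
    omega
  · exact h

end CfsgLib.BSWId
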